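import Groth.Prelude.Def_StMod6
import Groth.Agent.QCohLib.Gen
import Groth.Agent.S4407

/-!
# Modules on a category with a terminal object over a quasi-affine scheme
-/

set_option autoImplicit false
set_option linter.style.haveILetI false
set_option backward.isDefEq.respectTransparency false
set_option backward.isDefEq.respectTransparency.types false

universe w v u

open CategoryTheory CategoryTheory.Limits AlgebraicGeometry Opposite StMod

noncomputable section

namespace RelGenQALib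

/-- A morphism killing the global sections of a globally generated module is zero. -/
theorem eq_zero_of_app_top {X : Scheme.{u}} {F N : X.Modules} (hF : Curv2.IsGloballyGenerated F) (q : F ⟶ N)
    (hq : ∀ x : Γ(F, ⊤), q.app ⊤ x = 0) : q = 0 := by
  obtain ⟨ι, p, hp⟩ := hF
  rw [← cancel_epi p, comp_zero]
  refine (N.freeHomEquiv (I := ι)).injective (funext fun i => ?_)
  refine Subtype.ext (funext fun V => ?_)
  obtain ⟨V⟩ := V
  rw [QCohLib.sections_val N _ V, QCohLib.sections_val N _ V]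
  refine congrArg _ ?_
  rw [SheafOfModules.freeHomEquiv_comp_apply]
  refine (hq _).trans ?_
  rw [show (0 : (SheafOfModules.free ι : X.Modules) ⟶ N) = p ≫ 0 from comp_zero.symm,
    SheafOfModules.freeHomEquiv_comp_apply]
  rfl

variable {S : Scheme.{u}} {𝒳 : BasedCategory.{v, w} (Over S)}

/-- The morphism from the structure sheaf defined by a compatible family of sections. -/
def homOfSect (M : Mod 𝒳) (s : ∀ ξ, Γ(M.obj ξ, ⊤))
    (hs : ∀ ⦃ξ' ξ : 𝒳.obj⦄ (φ : ξ' ⟶ ξ), M.mapTop φ (s ξ) = s ξ') : O 𝒳 ⟶ M where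
  app ξ := QCohLib.unitHom (M.obj ξ) (s ξ)
  comm {ξ' ξ} φ g hg := by
    apply Scheme.Modules.hom_ext
    intro V
    refine ConcreteCategory.hom_ext _ _ fun r => ?_
    change (QCohLib.unitHom (M.obj ξ') (s ξ')).app (g ⁻¹ᵁ V) (g.app V r) =
      (M.map φ hg).app V ((QCohLib.unitHom (M.obj ξ) (s ξ)).app V r)
    rw [QCohLib.unitHom_app, QCohLib.unitHom_app, QCohLib.app_smul, QCohLib.app_map]
    rw [← hs φ, Mod.mapTop_eq M φ hg]
    rfl

theorem homOfSect_app_one (M : Mod 𝒳) (s : ∀ ξ, Γ(M.obj ξ, ⊤))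
    (hs : ∀ ⦃ξ' ξ : 𝒳.obj⦄ (φ : ξ' ⟶ ξ), M.mapTop φ (s ξ) = s ξ') (ξ : 𝒳.obj) :
    ((homOfSect M s hs).app ξ).app ⊤ (1 : Γ(sch 𝒳 ξ, ⊤)) = s ξ := by
  change (QCohLib.unitHom (M.obj ξ) (s ξ)).app ⊤ (1 : Γ(sch 𝒳 ξ, ⊤)) = s ξ
  rw [QCohLib.unitHom_app, one_smul]
  exact QCohLib.toSections_top _ _

/-- On a category with a terminal object over a quasi-affine scheme the structure sheaf generates. -/
theorem eq_zero_of_terminal (w0 : 𝒳.obj) [(sch 𝒳 w0).IsQuasiAffine]
    (hk : ∀ x, Nonempty (x ⟶ w0)) (hu : ∀ (x : 𝒳.obj) (k k' : x ⟶ w0), k = k')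
    {M N : Mod 𝒳} (hMc : M.IsCartesian) (hMq : M.IsLocQCoh) (u : M ⟶ N)
    (h : ∀ φ : O 𝒳 ⟶ M, φ ≫ u = 0) : u = 0 := by
  let k : ∀ x, x ⟶ w0 := fun x => (hk x).some
  have h0 : u.app w0 = 0 := by
    refine eq_zero_of_app_top (Groth.Agent.S4407.result _ _ (hMq w0)) _ fun s0 => ?_
    let φ := homOfSect M (fun x => M.mapTop (k x) s0) fun ξ' ξ f => by
      rw [← Mod.mapTop_comp, hu _ (f ≫ k ξ) (k ξ')]
    have h1 := congrArg (fun t : O 𝒳 ⟶ N => (t.app w0).app ⊤ (1 : Γ(sch 𝒳 w0, ⊤))) (h φ)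
    have h2 : (φ.app w0).app ⊤ (1 : Γ(sch 𝒳 w0, ⊤)) = s0 := by
      refine (homOfSect_app_one M _ _ w0).trans ?_
      rw [hu _ (k w0) (𝟙 w0), Mod.mapTop_id]
    rw [← h2]
    exact h1
  refine Mod.hom_ext fun x => ?_
  let g := bmap 𝒳 (k x)
  let adj := Scheme.Modules.pullbackPushforwardAdjunction g
  have hc : M.map (k x) (g := g) rfl ≫ (Scheme.Modules.pushforward g).map (u.app x) = 0 := by
    rw [u.comm, h0, zero_comp]
  haveI := hMc (k x) (g := g) rfl
  rw [← cancel_epi ((adj.homEquiv (M.obj w0) (M.obj x)).symm (M.map (k x) (g := g) rfl)), Mod.zero_app, comp_zero]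
  apply (adj.homEquiv (M.obj w0) (N.obj x)).injective
  rw [adj.homEquiv_naturality_right, Equiv.apply_symm_apply, hc, adj.homEquiv_unit, Functor.map_zero, comp_zero]

end RelGenQALib
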